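import Groth.Agent.Lib.CAlgLow.AnUnram
import Groth.Agent.Lib.CplDomain.Nagata
import Groth.Agent.Lib.CplLocH7.Basic
import Groth.Agent.Lib.Hens.Reduced
import Groth.Agent.S0566

/-!
# Normalisation of generically étale algebras over analytically unramified local rings
-/

set_option autoImplicit false
set_option linter.style.haveILetI false
set_option backward.isDefEq.respectTransparency.types false

universe u

open TensorProduct

noncomputable section

namespace Groth.Agent.NormRed14

/-- A domain with a reduced faithfully flat Nagata algebra has finite integral closure. -/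
theorem finite_of_reduced_nagata (B C : Type u) [CommRing B] [IsDomain B] [CommRing C] [Algebra B C]
    [Module.FaithfullyFlat B C] (hC : CAlg.IsNagata C) [IsReduced C]
    (K : Type u) [Field K] [Algebra B K] [IsFractionRing B K] :
    Module.Finite B (integralClosure B K) := by
  let Q := FractionRing C
  haveI : IsReduced Q := isReduced_localizationPreserves (nonZeroDivisors C) Q ‹_›
  have hu : ∀ a : B, a ≠ 0 → IsUnit (algebraMap B Q a) :=
    fun a ha => AnUnram.isUnit_algebraMap_of_flat C Q a ha
  let f : K →ₐ[B] Q := IsLocalization.liftAlgHom (M := nonZeroDivisors B) (f := Algebra.ofId B Q)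
    fun s => hu s (nonZeroDivisors.ne_zero s.2)
  have hsurj : Function.Surjective (algebraMap Q (Q ⊗[B] K)) := fun x => by
    induction x using TensorProduct.induction_on with
    | zero => exact ⟨0, map_zero _⟩
    | add x y hx hy =>
      obtain ⟨a, rfl⟩ := hx; obtain ⟨b, rfl⟩ := hy
      exact ⟨a + b, map_add _ _ _⟩
    | tmul q k =>
      obtain ⟨a, s, hs, rfl⟩ := IsFractionRing.div_surjective (A := B) k
      obtain ⟨v, hv⟩ := hu s (nonZeroDivisors.ne_zero hs)
      refine ⟨q * ↑v⁻¹ * algebraMap B Q a, ?_⟩
      have h1 : s • (q * ↑v⁻¹) = q := by rw [Algebra.smul_def, ← hv, mul_left_comm, Units.mul_inv, mul_one]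
      have h2 : s • (algebraMap B K a / algebraMap B K s) = a • 1 := by
        rw [Algebra.smul_def, mul_div_cancel₀ _ (IsFractionRing.to_map_ne_zero_of_mem_nonZeroDivisors hs),
          Algebra.smul_def, mul_one]
      conv_rhs => rw [← h1, TensorProduct.smul_tmul, h2, ← TensorProduct.smul_tmul]
      rw [Algebra.TensorProduct.algebraMap_apply, Algebra.algebraMap_self, RingHom.id_apply, Algebra.smul_def, mul_comm]
  haveI : IsReduced (Q ⊗[B] K) := by
    refine isReduced_of_injective (Algebra.TensorProduct.lift (Algebra.ofId Q Q) f fun _ _ => mul_comm _ _) ?_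
    intro x y hxy
    obtain ⟨a, rfl⟩ := hsurj x
    obtain ⟨b, rfl⟩ := hsurj y
    rw [show a = b by simpa using hxy]
  letI : Algebra (FractionRing B) K := ((FractionRing.algEquiv B K).toAlgHom.toRingHom).toAlgebra
  haveI : IsScalarTower B (FractionRing B) K :=
    IsScalarTower.of_algebraMap_eq fun a => ((FractionRing.algEquiv B K).commutes a).symm
  haveI : FiniteDimensional (FractionRing B) K :=
    Module.Finite.of_surjective (Algebra.linearMap (FractionRing B) K) (FractionRing.algEquiv B K).surjective
  exact AnUnram.finite_integralClosure_of_isReduced_fibre C hC (nonZeroDivisors _) Q (IsFractionRing.injective _ Q)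
    hu K

attribute [local instance] Algebra.TensorProduct.rightAlgebra

/-- A finite type domain over an analytically unramified local ring which is generically étale is N-1. -/
theorem finite_integralClosure_of_etale (A B E : Type u) [CommRing A] [IsLocalRing A] [IsNoetherianRing A]
    [IsReduced (AdicCompletion (IsLocalRing.maximalIdeal A) A)]
    [CommRing B] [IsDomain B] [Algebra A B] [Algebra.FiniteType A B]
    [CommRing E] [Algebra A E] [Algebra.Etale A E] (φ : B →ₐ[A] E) (hφ : Function.Injective φ)
    (K : Type u) [Field K] [Algebra B K] [IsFractionRing B K] :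
    Module.Finite B (integralClosure B K) := by
  let Ah := AdicCompletion (IsLocalRing.maximalIdeal A) A
  haveI : Module.FaithfullyFlat A Ah := CplLocH7.faithfullyFlat_cpl A
  haveI : IsNoetherianRing Ah := CplLocH7.isNoetherianRing_cpl A
  let C := B ⊗[A] Ah
  haveI : IsReduced C := by
    haveI : IsReduced (Ah ⊗[A] E) := Hens.isReduced_of_etale Ah (Ah ⊗[A] E)
    have hinj : Function.Injective (Algebra.TensorProduct.map φ (AlgHom.id A Ah)) :=
      Module.Flat.rTensor_preserves_injective_linearMap (M := Ah) φ.toLinearMap hφ
    exact isReduced_of_injective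
      ((Algebra.TensorProduct.comm A E Ah).toAlgHom.comp (Algebra.TensorProduct.map φ (AlgHom.id A Ah)))
      ((Algebra.TensorProduct.comm A E Ah).injective.comp hinj)
  have hC : CAlg.IsNagata C := by
    letI : Algebra Ah C := ((Algebra.TensorProduct.includeRight : Ah →ₐ[A] C) : Ah →+* C).toAlgebra
    haveI : Algebra.FiniteType Ah C := by
      let e : Ah ⊗[A] B →ₐ[Ah] C :=
        { (Algebra.TensorProduct.comm A Ah B).toRingEquiv.toRingHom with
          commutes' := fun a => by
            show Algebra.TensorProduct.comm A Ah B (a ⊗ₜ[A] 1) = _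
            rw [Algebra.TensorProduct.comm_tmul]
            rfl }
      exact Algebra.FiniteType.of_surjective e (Algebra.TensorProduct.comm A Ah B).surjective
    exact Groth.Agent.S0566.result Ah (CplDomain.isNagata_of_complete _) C
  exact finite_of_reduced_nagata B C hC K

end Groth.Agent.NormRed14

end
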