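import Groth.Agent.Lib.NormRed14.AnUnr

/-!
# Normalisation when the completed base change is normal off the closed fibre
-/

set_option autoImplicit false
set_option linter.style.haveILetI false
set_option backward.isDefEq.respectTransparency.types false

universe u

open TensorProduct IsLocalRing

noncomputable section

namespace Groth.Agent.NormRed14

attribute [local instance] Algebra.TensorProduct.rightAlgebra

/-- If the completed base change of a finite type domain has domain local rings off the closed fibre,
the domain is N-1. -/
theorem finite_integralClosure_of_offFibre (A B : Type u) [CommRing A] [IsLocalRing A] [IsNoetherianRing A]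
    [CommRing B] [IsDomain B] [Algebra A B] [Algebra.FiniteType A B]
    (hC : ∀ (P : Ideal (B ⊗[A] AdicCompletion (maximalIdeal A) A)) [P.IsPrime],
      (∃ t ∈ maximalIdeal A, algebraMap A (B ⊗[A] AdicCompletion (maximalIdeal A) A) t ∉ P) →
        IsDomain (Localization.AtPrime P))
    (K : Type u) [Field K] [Algebra B K] [IsFractionRing B K] :
    Module.Finite B (integralClosure B K) := by
  let Ah := AdicCompletion (maximalIdeal A) A
  haveI : Module.FaithfullyFlat A Ah := CplLocH7.faithfullyFlat_cpl A
  haveI : IsNoetherianRing Ah := CplLocH7.isNoetherianRing_cpl A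
  let C := B ⊗[A] Ah
  haveI : IsReduced C := by
    by_cases h : ∃ t ∈ maximalIdeal A, algebraMap A B t ≠ 0
    · obtain ⟨t, htm, ht⟩ := h
      have hreg : IsRegular (algebraMap A B t) := IsRegular.of_ne_zero ht
      have hC0 : ∀ (n : ℕ) (x : C), algebraMap A C t ^ n * x = 0 → x = 0 := by
        intro n x hx
        have h1 : IsSMulRegular C (algebraMap A B t ^ n) :=
          Module.Flat.isSMulRegular_of_isRegular (hreg.pow n)
        refine h1 ?_
        show algebraMap A B t ^ n • x = algebraMap A B t ^ n • (0 : C)
        have h2 : algebraMap A B t ^ n • x = algebraMap B C (algebraMap A B t ^ n) * x :=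
          Algebra.smul_def (R := B) (A := C) _ _
        rw [smul_zero, h2, map_pow, ← IsScalarTower.algebraMap_apply A B C]
        exact hx
      refine ⟨fun x hx => ?_⟩
      have hrad : algebraMap A C t ∈ (Module.annihilator C (Ideal.span {x})).radical := by
        rw [Ideal.radical_eq_sInf]
        refine Submodule.mem_sInf.2 fun P' hP => ?_
        let P : Ideal C := P'
        haveI : P.IsPrime := hP.2
        by_contra htP
        haveI := hC P ⟨t, htm, htP⟩
        obtain ⟨s, hs⟩ := (IsLocalization.map_eq_zero_iff P.primeCompl (Localization.AtPrime P) x).1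
          ((hx.map (algebraMap C (Localization.AtPrime P))).eq_zero)
        refine s.2 (hP.1 (Module.mem_annihilator.2 fun y => ?_))
        obtain ⟨c, hc⟩ := Ideal.mem_span_singleton'.1 y.2
        ext
        show (s : C) * (y : C) = 0
        rw [← hc, mul_left_comm, hs, mul_zero]
      obtain ⟨n, hn⟩ := hrad
      exact hC0 n x (congrArg Subtype.val
        (Module.mem_annihilator.1 hn ⟨x, Ideal.mem_span_singleton_self x⟩))
    · push Not at h
      have hsurj : Function.Surjective (algebraMap B C) := by
        intro x
        induction x using TensorProduct.induction_on with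
        | zero => exact ⟨0, map_zero _⟩
        | add x y hx hy =>
          obtain ⟨a, rfl⟩ := hx; obtain ⟨b, rfl⟩ := hy
          exact ⟨a + b, map_add _ _ _⟩
        | tmul b y =>
          obtain ⟨a, ha⟩ := CplLocH7.exists_sub_mem_pow 1 y
          rw [pow_one, CplLocH7.maximalIdeal_cpl] at ha
          refine ⟨a • b, ?_⟩
          have hz : ∀ z ∈ (maximalIdeal A).map (algebraMap A Ah), (b ⊗ₜ[A] z : C) = 0 := by
            intro z hz
            have hz' : z ∈ maximalIdeal A • (⊤ : Submodule A Ah) := by rw [Ideal.smul_top_eq_map]; exact hz
            refine Submodule.smul_induction_on hz' (fun r hr w _ => ?_) fun u v hu hv => by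
              rw [tmul_add, hu, hv, add_zero]
            rw [← smul_tmul, Algebra.smul_def, h r hr, zero_mul, zero_tmul]
          have := hz _ ha
          rw [tmul_sub, sub_eq_zero] at this
          rw [this, Algebra.TensorProduct.algebraMap_apply, Algebra.algebraMap_self, RingHom.id_apply]
          show (a • b) ⊗ₜ[A] (1 : Ah) = b ⊗ₜ[A] (algebraMap A Ah a)
          rw [Algebra.algebraMap_eq_smul_one, smul_tmul]
      exact isReduced_of_injective (RingEquiv.ofBijective (algebraMap B C)
        ⟨FaithfulSMul.algebraMap_injective B C, hsurj⟩).symm (RingEquiv.injective _)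
  have hN : CAlg.IsNagata C := by
    letI : Algebra Ah C := ((Algebra.TensorProduct.includeRight : Ah →ₐ[A] C) : Ah →+* C).toAlgebra
    haveI : Algebra.FiniteType Ah C := by
      let e : Ah ⊗[A] B →ₐ[Ah] C :=
        { (Algebra.TensorProduct.comm A Ah B).toRingEquiv.toRingHom with
          commutes' := fun a => by
            show Algebra.TensorProduct.comm A Ah B (a ⊗ₜ[A] 1) = _
            rw [Algebra.TensorProduct.comm_tmul]
            rfl }
      exact Algebra.FiniteType.of_surjective e (Algebra.TensorProduct.comm A Ah B).surjective
    exact Groth.Agent.S0566.result Ah (CplDomain.isNagata_of_complete _) C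
  exact finite_of_reduced_nagata B C hN K

end Groth.Agent.NormRed14

end
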